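import Mathlib
import Groth.Agent.Lib.Helper2.Hopf.KernelTorsor
import Groth.Agent.Lib.Helper2.Hopf.HopfSub
import Groth.Agent.Lib.Helper2.FF.Union
import Groth.Agent.Lib.Helper2.FF.Epi
import Groth.Agent.Lib.Helper2.Unip.MultPart

/-!
# Coinvariants of the quotient by a sub-Hopf-algebra (helper6)

Part 1: for a sub-Hopf-algebra `B` of a commutative Hopf algebra `A` over a field and
`J = B⁺A`, the right `A/J`-coinvariants of `A` are exactly `B` (Takeuchi's faithful flatness +
the kernel torsor isomorphism + faithfully flat descent).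
-/

set_option autoImplicit false
set_option linter.unusedSectionVars false
set_option linter.unusedVariables false
set_option linter.unusedSimpArgs false
set_option linter.style.haveILetI false
set_option linter.overlappingInstances false
set_option maxHeartbeats 800000
set_option synthInstance.maxHeartbeats 400000

noncomputable section

namespace Groth.Agent.Lib.Helper6.NormQ

open TensorProduct Groth.Agent.Helper2.FF Groth.Agent.Helper2.HopfSub
  Groth.Agent.Helper2.HopfLib Groth.Agent.Helper2.MultPart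

universe u v w

section

variable {k : Type u} [Field k] {A : Type v} [CommRing A] [HopfAlgebra k A]
variable (B : Subalgebra k A) (hB : HS B)

include hB in
lemma hΔ_of_HS (b : B) : Coalgebra.comul (R := k) (B.val b) ∈ (ι₂ B.val).range := hB.1 b b.2

include hB in
lemma hS_of_HS (b : B) : HopfAlgebra.antipode k (B.val b) ∈ B.val.range :=
  ⟨⟨_, hB.2 b b.2⟩, rfl⟩

/-- the Hopf algebra structure on a sub-Hopf-algebra -/
abbrev hopfB : HopfAlgebra k B :=
  hopfAlgebraB (ι := B.val) Subtype.val_injective (hΔ_of_HS B hB) (hS_of_HS B hB)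

/-- the inclusion as a bialgebra map -/
def inclB : letI := hopfB B hB; B →ₐc[k] A :=
  ιBialg (ι := B.val) Subtype.val_injective (hΔ_of_HS B hB) (hS_of_HS B hB)

lemma inclB_apply (b : B) : inclB B hB b = (b : A) := rfl

lemma inclB_injective : Function.Injective (inclB B hB) := Subtype.val_injective

lemma augJ_eq_map : letI := hopfB B hB
    augJ B = Ideal.map ((inclB B hB : B →ₐc[k] A) : B →+* A)
      (RingHom.ker (Bialgebra.counitAlgHom k B)) := by
  letI := hopfB B hB
  unfold augJ Ideal.map
  congr 1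
  ext a
  constructor
  · rintro ⟨haB, ha⟩
    exact ⟨⟨a, haB⟩, ha, rfl⟩
  · rintro ⟨b, hb, rfl⟩
    exact ⟨b.2, hb⟩

lemma augJ_eq_kerIdeal : letI := hopfB B hB
    augJ B = kerIdeal k A B := by
  letI := hopfB B hB
  unfold augJ kerIdeal Ideal.map
  congr 1
  ext a
  constructor
  · rintro ⟨haB, ha⟩
    exact ⟨⟨a, haB⟩, ha, rfl⟩
  · rintro ⟨b, hb, rfl⟩
    exact ⟨b.2, hb⟩

lemma projT_eq_lTensor {A'' : Type v} [CommRing A''] [HopfAlgebra k A''] [Algebra A'' A]
    (x : A ⊗[k] A) :
    projT k A A'' x = (Ideal.Quotient.mkₐ k (kerIdeal k A A'')).toLinearMap.lTensor A x := by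
  induction x using TensorProduct.induction_on with
  | zero => simp
  | tmul a b => rfl
  | add x y hx hy => rw [map_add, map_add, hx, hy]

include hB in
/-- the right coinvariants of `A` under `A ⧸ B⁺A` lie in `B` -/
theorem mem_of_coinv (J : Ideal A) (hJ : J = augJ B) (a : A)
    (h : (Ideal.Quotient.mkₐ k J).toLinearMap.lTensor A (Coalgebra.comul (R := k) a) =
      a ⊗ₜ[k] (1 : A ⧸ J)) : a ∈ B := by
  letI := hopfB B hB
  have hJ' : J = kerIdeal k A B := hJ.trans (augJ_eq_kerIdeal B hB)
  subst hJ'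
  haveI : Module.FaithfullyFlat B A := faithfullyFlat_of_HS B hB
  have hΔ' : (Bialgebra.comulAlgHom k A).comp (IsScalarTower.toAlgHom k B A) =
      (Algebra.TensorProduct.map (IsScalarTower.toAlgHom k B A)
        (IsScalarTower.toAlgHom k B A)).comp (Bialgebra.comulAlgHom k B) :=
    (ι₂_comp_comulB (ι := B.val) Subtype.val_injective (hΔ_of_HS B hB)).symm
  have hε' : (Bialgebra.counitAlgHom k A).comp (IsScalarTower.toAlgHom k B A) =
      Bialgebra.counitAlgHom k B := rfl
  have h1 : torsorHom hΔ' ((1 : A) ⊗ₜ[B] a) = projT k A B (Coalgebra.comul (R := k) a) := by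
    unfold torsorHom
    rw [Algebra.TensorProduct.lift_tmul, map_one, one_mul, torsorG_apply, shear_one_tmul]
  have h2 : torsorHom hΔ' (a ⊗ₜ[B] (1 : A)) = a ⊗ₜ[k] (1 : A ⧸ kerIdeal k A B) := by
    unfold torsorHom
    rw [Algebra.TensorProduct.lift_tmul, map_one, mul_one]
    rfl
  have h4 : (1 : A) ⊗ₜ[B] a = a ⊗ₜ[B] (1 : A) := by
    apply (torsorEquiv hΔ' hε').injective
    have e : ∀ x, torsorEquiv hΔ' hε' x = torsorHom hΔ' x := fun x => rfl
    rw [e, e, h1, h2, projT_eq_lTensor, h]
  have h5 : Algebra.TensorProduct.includeLeftSubRight B A a = 0 := by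
    rw [Algebra.TensorProduct.includeLeftSubRight_apply, h4, sub_self]
  obtain ⟨b, hb⟩ := (Algebra.IsEffective.of_faithfullyFlat B A a).mp h5
  rw [← hb]
  exact b.2

end

end Groth.Agent.Lib.Helper6.NormQ
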