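import Mathlib
import Groth.Prelude.Def_HopfRep
import Groth.Agent.Lib.Helper6.NormQ.NQ1

/-!
# Coinvariants of the quotient by a sub-Hopf-algebra (helper6)

Part 2: for an `A`-comodule `V`, a sub-Hopf-algebra `B` of `A` and `J = B⁺A`, the
`A/J`-coinvariants `W` of `V` form an `A`-subcomodule whose coaction has coefficients in `B`:
`ρ(W) ⊆ W ⊗ B`.
-/

set_option autoImplicit false
set_option linter.unusedSectionVars false
set_option linter.unusedVariables false
set_option linter.unusedSimpArgs false
set_option linter.style.haveILetI false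
set_option linter.overlappingInstances false
set_option maxHeartbeats 800000
set_option synthInstance.maxHeartbeats 400000

noncomputable section

namespace Groth.Agent.Lib.Helper6.NormQ

open TensorProduct Groth.Agent.Helper2.FF Groth.Agent.Helper2.HopfSub
  Groth.Agent.Helper2.HopfLib Groth.Agent.Helper2.MultPart

universe u v w w'

section tensor

variable {k : Type u} [Field k] {V : Type w} {A : Type v} {Q : Type w'}
  [AddCommGroup V] [Module k V] [AddCommGroup A] [Module k A] [AddCommGroup Q] [Module k Q]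

/-- over a field, `(V ⊗ B) ∩ (W ⊗ A) = W ⊗ B` inside `V ⊗ A` -/
lemma mem_range_map_of_mem_range (W : Submodule k V) (Bs : Submodule k A) (t : V ⊗[k] A)
    (h1 : t ∈ LinearMap.range (Bs.subtype.lTensor V))
    (h2 : t ∈ LinearMap.range (W.subtype.rTensor A)) :
    t ∈ LinearMap.range (TensorProduct.map W.subtype Bs.subtype) := by
  obtain ⟨s', rfl⟩ := h2
  have hex : Function.Exact Bs.subtype Bs.mkQ := LinearMap.exact_subtype_mkQ Bs
  have h3 : Bs.mkQ.lTensor V (W.subtype.rTensor A s') = 0 := by
    obtain ⟨s, hs⟩ := h1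
    rw [← hs, ← LinearMap.comp_apply, ← LinearMap.lTensor_comp]
    have h0 : Bs.mkQ ∘ₗ Bs.subtype = 0 := by
      ext b
      simp
    rw [h0, LinearMap.lTensor_zero, LinearMap.zero_apply]
  have h4 : W.subtype.rTensor (A ⧸ Bs) (Bs.mkQ.lTensor W s') = 0 := by
    rw [← LinearMap.comp_apply, LinearMap.rTensor_comp_lTensor, ← LinearMap.lTensor_comp_rTensor,
      LinearMap.comp_apply, h3]
  have hinj : Function.Injective (W.subtype.rTensor (A ⧸ Bs)) :=
    Module.Flat.rTensor_preserves_injective_linearMap _ W.injective_subtype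
  have h5 : Bs.mkQ.lTensor W s' = 0 := hinj (by rw [h4, map_zero])
  obtain ⟨s'', hs''⟩ := (Module.Flat.lTensor_exact W hex s').mp h5
  refine ⟨s'', ?_⟩
  rw [← hs'', ← LinearMap.comp_apply, LinearMap.rTensor_comp_lTensor]

lemma assoc_lTensor (π : A →ₗ[k] Q) (u : (V ⊗[k] A) ⊗[k] A) :
    (π.lTensor A).lTensor V (TensorProduct.assoc k V A A u) =
      TensorProduct.assoc k V A Q (π.lTensor (V ⊗[k] A) u) := by
  induction u using TensorProduct.induction_on with
  | zero => simp
  | tmul x b =>
    induction x using TensorProduct.induction_on with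
    | zero => simp
    | tmul v a => simp
    | add x y hx hy => simp only [TensorProduct.add_tmul, map_add, hx, hy]
  | add x y hx hy => simp only [map_add, hx, hy]

lemma assoc_tmul (t : V ⊗[k] A) (q : Q) :
    TensorProduct.assoc k V A Q (t ⊗ₜ[k] q) = ((TensorProduct.mk k A Q).flip q).lTensor V t := by
  induction t using TensorProduct.induction_on with
  | zero => simp
  | tmul v a => simp
  | add x y hx hy => simp only [TensorProduct.add_tmul, map_add, hx, hy]

lemma assoc_symm_rTensor (π : A →ₗ[k] Q) (u : V ⊗[k] (A ⊗[k] A)) :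
    (π.lTensor V).rTensor A ((TensorProduct.assoc k V A A).symm u) =
      (TensorProduct.assoc k V Q A).symm ((π.rTensor A).lTensor V u) := by
  induction u using TensorProduct.induction_on with
  | zero => simp
  | tmul v x =>
    induction x using TensorProduct.induction_on with
    | zero => simp
    | tmul a b => simp
    | add x y hx hy => simp only [TensorProduct.tmul_add, map_add, hx, hy]
  | add x y hx hy => simp only [map_add, hx, hy]

lemma assoc_symm_mk (t : V ⊗[k] A) (q : Q) :
    (TensorProduct.assoc k V Q A).symm ((TensorProduct.mk k Q A q).lTensor V t) =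
      ((TensorProduct.mk k V Q).flip q).rTensor A t := by
  induction t using TensorProduct.induction_on with
  | zero => simp
  | tmul v a => simp
  | add x y hx hy => simp only [map_add, hx, hy]

end tensor

section coinv

variable (k : Type u) [Field k] {A : Type v} [CommRing A] [HopfAlgebra k A]

/-- the `A ⧸ J`-coinvariants of an `A`-comodule -/
def coinv (J : Ideal A) (V : Type w) [AddCommGroup V] [Module k V] [HopfRep.Comod k A V] :
    Submodule k V :=
  LinearMap.ker ((Ideal.Quotient.mkₐ k J).toLinearMap.lTensor V ∘ₗ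
    HopfRep.Comod.coact (k := k) (A := A) - (TensorProduct.mk k V (A ⧸ J)).flip 1)

variable {k}
variable {V : Type w} [AddCommGroup V] [Module k V] [HopfRep.Comod k A V]

lemma mem_coinv {J : Ideal A} {v : V} : v ∈ coinv k J V ↔
    (Ideal.Quotient.mkₐ k J).toLinearMap.lTensor V (HopfRep.Comod.coact (k := k) (A := A) v) =
      v ⊗ₜ[k] (1 : A ⧸ J) := by
  unfold coinv
  rw [LinearMap.mem_ker, LinearMap.sub_apply, sub_eq_zero]
  rfl

variable (B : Subalgebra k A) (hB : HS B) (J : Ideal A) (hJ : J = augJ B)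

include hB hJ in
/-- elements of `B` are left coinvariant -/
lemma rTensor_mk_comul_of_mem (b : A) (hb : b ∈ B) :
    (Ideal.Quotient.mkₐ k J).toLinearMap.rTensor A (Coalgebra.comul (R := k) b) =
      (1 : A ⧸ J) ⊗ₜ[k] b := by
  subst hJ
  obtain ⟨z, hz⟩ := hB.1 b hb
  have key : ∀ z : B ⊗[k] B, (Ideal.Quotient.mkₐ k (augJ B)).toLinearMap.rTensor A
      (Algebra.TensorProduct.map B.val B.val z) =
      (1 : A ⧸ augJ B) ⊗ₜ[k] (TensorProduct.lid k A
        ((Coalgebra.counit (R := k) (A := A)).rTensor A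
          (Algebra.TensorProduct.map B.val B.val z))) := by
    intro z
    induction z using TensorProduct.induction_on with
    | zero => simp
    | add s t hs ht => simp only [map_add, hs, ht, TensorProduct.tmul_add]
    | tmul c d =>
      rw [Algebra.TensorProduct.map_tmul, LinearMap.rTensor_tmul, LinearMap.rTensor_tmul,
        TensorProduct.lid_tmul]
      show Ideal.Quotient.mk (augJ B) (c : A) ⊗ₜ[k] (d : A) = _
      rw [mk_eq_of_mem B c.2, Algebra.algebraMap_eq_smul_one, TensorProduct.smul_tmul]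
      rfl
  have hz' : Algebra.TensorProduct.map B.val B.val z = Coalgebra.comul (R := k) b := hz
  rw [← hz', key z, hz', Coalgebra.rTensor_counit_comul, TensorProduct.lid_tmul, one_smul]

include hB hJ in
/-- the coaction of a coinvariant vector has coefficients in `B` -/
theorem coact_mem_range_lTensor (w : V) (hw : w ∈ coinv k J V) :
    HopfRep.Comod.coact (k := k) (A := A) w ∈
      LinearMap.range ((Subalgebra.toSubmodule B).subtype.lTensor V) := by
  set π : A →ₗ[k] A ⧸ J := (Ideal.Quotient.mkₐ k J).toLinearMap with hπ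
  set ρ : V →ₗ[k] V ⊗[k] A := HopfRep.Comod.coact (k := k) (A := A) (V := V) with hρ
  let h : A →ₗ[k] A ⊗[k] (A ⧸ J) :=
    π.lTensor A ∘ₗ Coalgebra.comul - (TensorProduct.mk k A (A ⧸ J)).flip 1
  have hker : LinearMap.ker h ≤ Subalgebra.toSubmodule B := by
    intro a ha
    rw [LinearMap.mem_ker, LinearMap.sub_apply, sub_eq_zero] at ha
    exact mem_of_coinv B hB J hJ a ha
  have hw' : π.lTensor V (ρ w) = w ⊗ₜ[k] (1 : A ⧸ J) := mem_coinv.mp hw
  have hco := LinearMap.congr_fun (HopfRep.Comod.coassoc (k := k) (A := A) (V := V)) w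
  simp only [LinearMap.comp_apply, LinearEquiv.coe_coe] at hco
  have e1 : π.lTensor (V ⊗[k] A) (ρ.rTensor A (ρ w)) = ρ.rTensor (A ⧸ J) (π.lTensor V (ρ w)) := by
    have a1 : π.lTensor (V ⊗[k] A) (ρ.rTensor A (ρ w)) = TensorProduct.map ρ π (ρ w) := by
      rw [← LinearMap.comp_apply, LinearMap.lTensor_comp_rTensor]
    have a2 : ρ.rTensor (A ⧸ J) (π.lTensor V (ρ w)) = TensorProduct.map ρ π (ρ w) := by
      rw [← LinearMap.comp_apply, LinearMap.rTensor_comp_lTensor]
    rw [a1, a2]
  have h0 : h.lTensor V (ρ w) = 0 := by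
    have e2 : h.lTensor V (ρ w) = (π.lTensor A).lTensor V ((Coalgebra.comul (R := k)).lTensor V (ρ w))
        - ((TensorProduct.mk k A (A ⧸ J)).flip 1).lTensor V (ρ w) := by
      show (π.lTensor A ∘ₗ Coalgebra.comul - (TensorProduct.mk k A (A ⧸ J)).flip 1).lTensor V (ρ w)
        = _
      rw [LinearMap.lTensor_sub, LinearMap.sub_apply, LinearMap.lTensor_comp, LinearMap.comp_apply]
    rw [e2, ← hco, assoc_lTensor, e1, hw', LinearMap.rTensor_tmul, assoc_tmul, sub_self]
  obtain ⟨s, hs⟩ := (Module.Flat.lTensor_exact V (LinearMap.exact_subtype_ker_map h) (ρ w)).mp h0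
  refine ⟨(Submodule.inclusion hker).lTensor V s, ?_⟩
  rw [← hs, ← LinearMap.comp_apply, ← LinearMap.lTensor_comp]
  rfl

include hB hJ in
/-- the coinvariants form a subcomodule -/
theorem coact_mem_range_rTensor (w : V) (hw : w ∈ coinv k J V) :
    HopfRep.Comod.coact (k := k) (A := A) w ∈
      LinearMap.range ((coinv k J V).subtype.rTensor A) := by
  obtain ⟨s, hs⟩ := coact_mem_range_lTensor B hB J hJ w hw
  set π : A →ₗ[k] A ⧸ J := (Ideal.Quotient.mkₐ k J).toLinearMap with hπ
  set ρ : V →ₗ[k] V ⊗[k] A := HopfRep.Comod.coact (k := k) (A := A) (V := V) with hρ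
  let h' : V →ₗ[k] V ⊗[k] (A ⧸ J) := π.lTensor V ∘ₗ ρ - (TensorProduct.mk k V (A ⧸ J)).flip 1
  have hco := LinearMap.congr_fun (HopfRep.Comod.coassoc (k := k) (A := A) (V := V)) w
  simp only [LinearMap.comp_apply, LinearEquiv.coe_coe] at hco
  have hco' : ρ.rTensor A (ρ w) =
      (TensorProduct.assoc k V A A).symm ((Coalgebra.comul (R := k)).lTensor V (ρ w)) := by
    rw [← hco, LinearEquiv.symm_apply_apply]
  have hBs : (π.rTensor A ∘ₗ Coalgebra.comul) ∘ₗ (Subalgebra.toSubmodule B).subtype =
      (TensorProduct.mk k (A ⧸ J) A 1) ∘ₗ (Subalgebra.toSubmodule B).subtype := by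
    apply LinearMap.ext
    intro b
    exact rTensor_mk_comul_of_mem B hB J hJ b.1 b.2
  have e1 : (π.rTensor A).lTensor V ((Coalgebra.comul (R := k)).lTensor V (ρ w)) =
      (TensorProduct.mk k (A ⧸ J) A 1).lTensor V (ρ w) := by
    have a1 : (π.rTensor A).lTensor V ((Coalgebra.comul (R := k)).lTensor V (ρ w)) =
        ((π.rTensor A ∘ₗ Coalgebra.comul) ∘ₗ (Subalgebra.toSubmodule B).subtype).lTensor V s := by
      rw [LinearMap.lTensor_comp, LinearMap.lTensor_comp, LinearMap.comp_apply,
        LinearMap.comp_apply, hs]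
    have a2 : (TensorProduct.mk k (A ⧸ J) A 1).lTensor V (ρ w) =
        ((TensorProduct.mk k (A ⧸ J) A 1) ∘ₗ (Subalgebra.toSubmodule B).subtype).lTensor V s := by
      rw [LinearMap.lTensor_comp, LinearMap.comp_apply, hs]
    rw [a1, a2, hBs]
  have h0 : h'.rTensor A (ρ w) = 0 := by
    have e2 : h'.rTensor A (ρ w) = (π.lTensor V).rTensor A (ρ.rTensor A (ρ w)) -
        ((TensorProduct.mk k V (A ⧸ J)).flip 1).rTensor A (ρ w) := by
      show (π.lTensor V ∘ₗ ρ - (TensorProduct.mk k V (A ⧸ J)).flip 1).rTensor A (ρ w) = _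
      rw [LinearMap.rTensor_sub, LinearMap.sub_apply, LinearMap.rTensor_comp,
        LinearMap.comp_apply]
    rw [e2, hco', assoc_symm_rTensor, e1, assoc_symm_mk, sub_self]
  exact (Module.Flat.rTensor_exact A (LinearMap.exact_subtype_ker_map h') (ρ w)).mp h0

include hB hJ in
theorem isSubcomod_coinv : HopfRep.IsSubcomod (k := k) (A := A) (coinv k J V) :=
  fun w hw => coact_mem_range_rTensor B hB J hJ w hw

include hB hJ in
/-- `ρ(W) ⊆ W ⊗ B` for the coinvariants `W` -/
theorem coact_mem_range_map (w : V) (hw : w ∈ coinv k J V) :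
    HopfRep.Comod.coact (k := k) (A := A) w ∈
      LinearMap.range (TensorProduct.map (coinv k J V).subtype
        (Subalgebra.toSubmodule B).subtype) :=
  mem_range_map_of_mem_range _ _ _ (coact_mem_range_lTensor B hB J hJ w hw)
    (coact_mem_range_rTensor B hB J hJ w hw)

end coinv

end Groth.Agent.Lib.Helper6.NormQ
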