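import Mathlib
import Groth.Prelude.Def_HopfRep
import Groth.Agent.Lib.Helper6.NormQ.NQ2
import Groth.Agent.Lib.Helper9.Comod2
import Groth.Agent.Lib.Helper9.Comod4
import Groth.Agent.Lib.Helper2.Unip.Filt
import Groth.Agent.Lib.Helper2.Unip.Coconn

/-!
# Coinvariants of the quotient by a sub-Hopf-algebra (helper6)

Part 3: corestriction of a comodule with coefficients in a subcoalgebra; extensions of unipotent
groups are unipotent; closed subgroups of unipotent groups are unipotent.
-/

set_option autoImplicit false
set_option linter.unusedSectionVars false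
set_option linter.unusedVariables false
set_option linter.unusedSimpArgs false
set_option linter.style.haveILetI false
set_option linter.overlappingInstances false
set_option maxHeartbeats 800000
set_option synthInstance.maxHeartbeats 400000

noncomputable section

namespace Groth.Agent.Lib.Helper6.NormQ

open TensorProduct Groth.Agent.Helper2.FF Groth.Agent.Helper2.HopfSub
  Groth.Agent.Helper2.HopfLib Groth.Agent.Helper2.MultPart Groth.Agent.Helper2.Unip

universe u v v' w

section corestrict

variable {k : Type u} [Field k] {C : Type v} {A : Type v'} [AddCommGroup C] [Module k C]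
  [Coalgebra k C] [AddCommGroup A] [Module k A] [Coalgebra k A]
variable (ψ : C →ₗc[k] A) (hψ : Function.Injective ψ)
variable {V : Type w} [AddCommGroup V] [Module k V]

include hψ in
lemma lTensor_injective' : Function.Injective (ψ.toLinearMap.lTensor V) :=
  Module.Flat.lTensor_preserves_injective_linearMap _ hψ

lemma lTensor_map_assoc {C' A' : Type*} [AddCommGroup C'] [Module k C'] [AddCommGroup A']
    [Module k A'] (f : C' →ₗ[k] A') (u : (V ⊗[k] C') ⊗[k] C') :
    (TensorProduct.map f f).lTensor V (TensorProduct.assoc k V C' C' u) =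
      TensorProduct.assoc k V A' A' (TensorProduct.map (f.lTensor V) f u) := by
  induction u using TensorProduct.induction_on with
  | zero => simp
  | tmul x b =>
    induction x using TensorProduct.induction_on with
    | zero => simp
    | tmul v a => simp
    | add x y hx hy => simp only [TensorProduct.add_tmul, map_add, hx, hy]
  | add x y hx hy => simp only [map_add, hx, hy]

variable [HopfRep.Comod k A V]
variable (hV : ∀ v : V, HopfRep.Comod.coact (k := k) (A := A) v ∈
  LinearMap.range (ψ.toLinearMap.lTensor V))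

/-- the corestricted coaction -/
def coresCoact : V →ₗ[k] V ⊗[k] C :=
  (LinearEquiv.ofInjective (ψ.toLinearMap.lTensor V) (lTensor_injective' ψ hψ)).symm.toLinearMap ∘ₗ
    LinearMap.codRestrict (LinearMap.range (ψ.toLinearMap.lTensor V))
      (HopfRep.Comod.coact (k := k) (A := A)) hV

lemma lTensor_coresCoact (v : V) : ψ.toLinearMap.lTensor V (coresCoact ψ hψ hV v) =
    HopfRep.Comod.coact (k := k) (A := A) v := by
  unfold coresCoact
  rw [LinearMap.comp_apply]
  have := (LinearEquiv.ofInjective (ψ.toLinearMap.lTensor V)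
    (lTensor_injective' ψ hψ)).apply_symm_apply
    (LinearMap.codRestrict (LinearMap.range (ψ.toLinearMap.lTensor V))
      (HopfRep.Comod.coact (k := k) (A := A)) hV v)
  exact congrArg Subtype.val this

/-- corestriction of a comodule whose coefficients lie in the image of an injective coalgebra
map -/
@[reducible] def coresComod : HopfRep.Comod k C V where
  coact := coresCoact ψ hψ hV
  coassoc := by
    apply LinearMap.ext
    intro v
    simp only [LinearMap.comp_apply, LinearEquiv.coe_coe]
    have hcρ : ∀ x, ψ.toLinearMap.lTensor V (coresCoact ψ hψ hV x) =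
        HopfRep.Comod.coact (k := k) (A := A) x := lTensor_coresCoact ψ hψ hV
    have hΦ : Function.Injective ((TensorProduct.map ψ.toLinearMap ψ.toLinearMap).lTensor V) :=
      Module.Flat.lTensor_preserves_injective_linearMap _
        (TensorProduct.map_injective_of_flat_flat _ _ hψ hψ)
    apply hΦ
    have hco := LinearMap.congr_fun (HopfRep.Comod.coassoc (k := k) (A := A) (V := V)) v
    simp only [LinearMap.comp_apply, LinearEquiv.coe_coe] at hco
    have hR : (TensorProduct.map ψ.toLinearMap ψ.toLinearMap).lTensor V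
        ((Coalgebra.comul (R := k) (A := C)).lTensor V (coresCoact ψ hψ hV v)) =
        (Coalgebra.comul (R := k) (A := A)).lTensor V
          (HopfRep.Comod.coact (k := k) (A := A) v) := by
      have b1 : (TensorProduct.map ψ.toLinearMap ψ.toLinearMap).lTensor V
          ((Coalgebra.comul (R := k) (A := C)).lTensor V (coresCoact ψ hψ hV v)) =
          (TensorProduct.map ψ.toLinearMap ψ.toLinearMap ∘ₗ
            Coalgebra.comul (R := k) (A := C)).lTensor V (coresCoact ψ hψ hV v) := by
        rw [LinearMap.lTensor_comp, LinearMap.comp_apply]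
      have b2 : (Coalgebra.comul (R := k) (A := A)).lTensor V
          (HopfRep.Comod.coact (k := k) (A := A) v) =
          (Coalgebra.comul (R := k) (A := A) ∘ₗ ψ.toLinearMap).lTensor V
            (coresCoact ψ hψ hV v) := by
        rw [LinearMap.lTensor_comp, LinearMap.comp_apply, hcρ]
      rw [b1, b2, ψ.map_comp_comul]
    have hL : (TensorProduct.map ψ.toLinearMap ψ.toLinearMap).lTensor V
        (TensorProduct.assoc k V C C ((coresCoact ψ hψ hV).rTensor C (coresCoact ψ hψ hV v))) =
        TensorProduct.assoc k V A A ((HopfRep.Comod.coact (k := k) (A := A)).rTensor A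
          (HopfRep.Comod.coact (k := k) (A := A) v)) := by
      rw [lTensor_map_assoc]
      congr 1
      have a1 : TensorProduct.map (ψ.toLinearMap.lTensor V) ψ.toLinearMap
          ((coresCoact ψ hψ hV).rTensor C (coresCoact ψ hψ hV v)) =
          TensorProduct.map (ψ.toLinearMap.lTensor V ∘ₗ coresCoact ψ hψ hV) ψ.toLinearMap
            (coresCoact ψ hψ hV v) := by
        rw [LinearMap.rTensor, ← LinearMap.comp_apply, ← TensorProduct.map_comp,
          LinearMap.comp_id]
      have a2 : ψ.toLinearMap.lTensor V ∘ₗ coresCoact ψ hψ hV =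
          HopfRep.Comod.coact (k := k) (A := A) := LinearMap.ext hcρ
      have a3 : TensorProduct.map (HopfRep.Comod.coact (k := k) (A := A) (V := V)) ψ.toLinearMap
          (coresCoact ψ hψ hV v) =
          (HopfRep.Comod.coact (k := k) (A := A) (V := V)).rTensor A
            (ψ.toLinearMap.lTensor V (coresCoact ψ hψ hV v)) := by
        rw [← LinearMap.rTensor_comp_lTensor, LinearMap.comp_apply]
      rw [a1, a2, a3, hcρ]
    rw [hL, hR, hco]
  counit_comp := by
    apply LinearMap.ext
    intro v
    have hcρ := lTensor_coresCoact ψ hψ hV v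
    have hcu := LinearMap.congr_fun (HopfRep.Comod.counit_comp (k := k) (A := A) (V := V)) v
    simp only [LinearMap.comp_apply] at hcu ⊢
    have c1 : (Coalgebra.counit (R := k) (A := A)).lTensor V
        (HopfRep.Comod.coact (k := k) (A := A) v) =
        (Coalgebra.counit (R := k) (A := A) ∘ₗ ψ.toLinearMap).lTensor V
          (coresCoact ψ hψ hV v) := by
      rw [LinearMap.lTensor_comp, LinearMap.comp_apply, hcρ]
    rw [← hcu, c1, ψ.counit_comp]

end corestrict

section filt

variable {k : Type u} [Field k] {H₁ : Type v} {H₂ : Type w} [CommRing H₁] [CommRing H₂]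
  [Bialgebra k H₁] [Bialgebra k H₂]

/-- bialgebra maps preserve the coradical-type filtration -/
lemma map_mem_filt (φ : H₁ →ₐc[k] H₂) :
    ∀ (n : ℕ) (x : H₁), x ∈ filt k H₁ n → φ x ∈ filt k H₂ n := by
  intro n
  induction n with
  | zero =>
    intro x hx
    rw [filt_zero, Submodule.mem_bot] at hx
    rw [hx, map_zero]
    exact Submodule.zero_mem _
  | succ n ih =>
    intro x hx
    rw [mem_filt_succ] at hx ⊢
    obtain ⟨t, ht⟩ := hx
    let g : filt k H₁ n →ₗ[k] filt k H₂ n :=
      LinearMap.codRestrict (filt k H₂ n) ((φ : H₁ →ₗ[k] H₂) ∘ₗ (filt k H₁ n).subtype)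
        (fun v => ih v v.2)
    refine ⟨TensorProduct.map g (φ : H₁ →ₗ[k] H₂) t, ?_⟩
    have h1 : ∀ t : (filt k H₁ n) ⊗[k] H₁,
        (filt k H₂ n).subtype.rTensor H₂ (TensorProduct.map g (φ : H₁ →ₗ[k] H₂) t) =
        TensorProduct.map (φ : H₁ →ₗ[k] H₂) (φ : H₁ →ₗ[k] H₂)
          ((filt k H₁ n).subtype.rTensor H₁ t) := by
      intro t
      induction t using TensorProduct.induction_on with
      | zero => simp
      | tmul a b => rfl
      | add x y hx hy => simp only [map_add, hx, hy]
    have h3 : TensorProduct.map (φ : H₁ →ₗ[k] H₂) (φ : H₁ →ₗ[k] H₂)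
        (Coalgebra.comul (R := k) x) = Coalgebra.comul (R := k) (φ x) :=
      CoalgHomClass.map_comp_comul_apply φ x
    rw [h1, ht, map_sub, h3, TensorProduct.map_tmul]
    congr 2
    exact map_one φ

/-- closed subgroups of unipotent groups are unipotent -/
theorem isUnipotent_of_surjective (φ : H₁ →ₐc[k] H₂) (hφ : Function.Surjective φ)
    (hU : HopfRep.IsUnipotent k H₁) : HopfRep.IsUnipotent k H₂ := by
  refine isUnipotent_of_filtration (filt k H₂) filt_zero filt_mono ?_
    (fun n x hx => mem_filt_succ.mp hx)
  intro y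
  obtain ⟨x, rfl⟩ := hφ y
  obtain ⟨n, hn⟩ := exists_mem_filt_of_isUnipotent hU x
  exact ⟨n, map_mem_filt φ n x hn⟩

end filt

section ext

variable {k : Type u} [Field k] {A : Type v} [CommRing A] [HopfAlgebra k A]
  {C : Type v} [CommRing C] [HopfAlgebra k C]

lemma augJ_range_eq (ψ : C →ₐc[k] A) : augJ (ψ : C →ₐ[k] A).range =
    Ideal.map (ψ : C →+* A) (RingHom.ker (Bialgebra.counitAlgHom k C)) := by
  unfold augJ Ideal.map
  congr 1
  ext a
  constructor
  · rintro ⟨⟨c, rfl⟩, ha⟩
    refine ⟨c, ?_, rfl⟩
    have h1 : Coalgebra.counit (R := k) (ψ c) = Coalgebra.counit (R := k) c :=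
      CoalgHomClass.counit_comp_apply ψ c
    show Coalgebra.counit (R := k) c = 0
    rw [← h1]
    exact ha
  · rintro ⟨c, hc, rfl⟩
    refine ⟨⟨c, rfl⟩, ?_⟩
    have h1 : Coalgebra.counit (R := k) (ψ c) = Coalgebra.counit (R := k) c :=
      CoalgHomClass.counit_comp_apply ψ c
    show Coalgebra.counit (R := k) (ψ c) = 0
    rw [h1]
    exact hc

variable {V : Type w} [AddCommGroup V] [Module k V] [HopfRep.Comod k A V]

/-- the `A ⧸ J`-fixed vectors of `V` (restricted along `A → A ⧸ J`) are the coinvariants -/
lemma fixedPts_quot_eq (J : Ideal A) [J.IsHopfIdeal k] :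
    letI : HopfRep.Comod k (A ⧸ J) V := Groth.Agent.Helper9.comodOfCoalgHom
      ((Bialgebra.Quotient.mkBialgHom (R := k) J).toCoalgHom)
    HopfRep.fixedPts k (A ⧸ J) V = coinv k J V := by
  letI : HopfRep.Comod k (A ⧸ J) V := Groth.Agent.Helper9.comodOfCoalgHom
      ((Bialgebra.Quotient.mkBialgHom (R := k) J).toCoalgHom)
  ext v
  rw [mem_coinv]
  rfl

/-- lifting tensors with coefficients in the range of `ψ` -/
lemma exists_lTensor_eq (ψ : C →ₐc[k] A) (W : Type*) [AddCommGroup W] [Module k W]
    (s : W ⊗[k] (Subalgebra.toSubmodule (ψ : C →ₐ[k] A).range)) :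
    ∃ s' : W ⊗[k] C, (ψ : C →ₗc[k] A).toLinearMap.lTensor W s' =
      (Subalgebra.toSubmodule (ψ : C →ₐ[k] A).range).subtype.lTensor W s := by
  induction s using TensorProduct.induction_on with
  | zero => exact ⟨0, by simp⟩
  | tmul w b =>
    obtain ⟨c, hc⟩ := b.2
    refine ⟨w ⊗ₜ[k] c, ?_⟩
    rw [LinearMap.lTensor_tmul, LinearMap.lTensor_tmul]
    congr 1
  | add x y hx hy =>
    obtain ⟨x', hx'⟩ := hx
    obtain ⟨y', hy'⟩ := hy
    exact ⟨x' + y', by rw [map_add, map_add, hx', hy']⟩

end ext

end Groth.Agent.Lib.Helper6.NormQ
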