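import Mathlib
import Groth.Prelude.Def_HopfRep
import Groth.Agent.Lib.Helper6.NormQ.NQ3

/-!
# Coinvariants of the quotient by a sub-Hopf-algebra (helper6)

Part 4: an extension of a unipotent group by a unipotent group is unipotent.
-/

set_option autoImplicit false
set_option linter.unusedSectionVars false
set_option linter.unusedVariables false
set_option linter.unusedSimpArgs false
set_option linter.style.haveILetI false
set_option linter.overlappingInstances false
set_option maxHeartbeats 800000
set_option synthInstance.maxHeartbeats 400000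

noncomputable section

namespace Groth.Agent.Lib.Helper6.NormQ

open TensorProduct Groth.Agent.Helper2.FF Groth.Agent.Helper2.HopfSub
  Groth.Agent.Helper2.HopfLib Groth.Agent.Helper2.MultPart Groth.Agent.Helper2.Unip
  Groth.Agent.Helper9

universe u v w

section ext

variable {k : Type u} [Field k] {A : Type v} [CommRing A] [HopfAlgebra k A]
  {C : Type v} [CommRing C] [HopfAlgebra k C]

/-- data extracted from the coinvariants: for a comodule `V` whose `A ⧸ J`-coinvariants `W` are
nonzero, `W` is a subcomodule carrying a `C`-comodule structure compatible with `ψ`. -/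
theorem exists_cores_coinv (ψ : C →ₐc[k] A) (hψ : Function.Injective ψ) (J : Ideal A)
    (hJ : J = Ideal.map (ψ : C →+* A) (RingHom.ker (Bialgebra.counitAlgHom k C)))
    (V : Type w) [AddCommGroup V] [Module k V] [HopfRep.Comod k A V] :
    HopfRep.IsSubcomod (k := k) (A := A) (coinv k J V) ∧
    ∃ cC : HopfRep.Comod k C (coinv k J V), ∀ w : coinv k J V,
      TensorProduct.map (coinv k J V).subtype (ψ : C →ₗc[k] A).toLinearMap
        (cC.coact w) = HopfRep.Comod.coact (k := k) (A := A) (w : V) := by
  set B : Subalgebra k A := (ψ : C →ₐ[k] A).range with hBdef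
  have hB : HS B := HS_range ψ
  have hJB : J = augJ B := hJ.trans (augJ_range_eq ψ).symm
  set W := coinv k J V with hWdef
  have hWsub : HopfRep.IsSubcomod (k := k) (A := A) W := isSubcomod_coinv B hB J hJB
  refine ⟨hWsub, ?_⟩
  letI cW : HopfRep.Comod k A W := subComod W hWsub
  have hinjW : Function.Injective (W.subtype.rTensor A) :=
    Module.Flat.rTensor_preserves_injective_linearMap _ W.injective_subtype
  have hcoef : ∀ w : W, HopfRep.Comod.coact (k := k) (A := A) w ∈
      LinearMap.range ((ψ : C →ₗc[k] A).toLinearMap.lTensor W) := by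
    intro w
    obtain ⟨s, hs⟩ := coact_mem_range_map B hB J hJB w.1 w.2
    obtain ⟨s', hs'⟩ := exists_lTensor_eq ψ W s
    refine ⟨s', ?_⟩
    apply hinjW
    have h3 : W.subtype.rTensor A (HopfRep.Comod.coact (k := k) (A := A) w) =
        HopfRep.Comod.coact (k := k) (A := A) (w : V) := subtype_rTensor_subCoact W hWsub w
    rw [h3, hs', ← hs, ← LinearMap.comp_apply, LinearMap.rTensor_comp_lTensor]
  refine ⟨coresComod (ψ : C →ₗc[k] A) hψ hcoef, ?_⟩
  intro w
  have h1 := lTensor_coresCoact (ψ : C →ₗc[k] A) hψ hcoef w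
  have h2 : TensorProduct.map W.subtype (ψ : C →ₗc[k] A).toLinearMap
      (coresCoact (ψ : C →ₗc[k] A) hψ hcoef w) =
      W.subtype.rTensor A ((ψ : C →ₗc[k] A).toLinearMap.lTensor W
        (coresCoact (ψ : C →ₗc[k] A) hψ hcoef w)) := by
    rw [← LinearMap.rTensor_comp_lTensor, LinearMap.comp_apply]
  show TensorProduct.map W.subtype (ψ : C →ₗc[k] A).toLinearMap
      (coresCoact (ψ : C →ₗc[k] A) hψ hcoef w) = _
  rw [h2, h1]
  exact subtype_rTensor_subCoact W hWsub w

/-- an extension of a unipotent group by a unipotent group is unipotent -/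
theorem isUnipotent_of_extension (ψ : C →ₐc[k] A) (hψ : Function.Injective ψ) (J : Ideal A)
    [J.IsHopfIdeal k]
    (hJ : J = Ideal.map (ψ : C →+* A) (RingHom.ker (Bialgebra.counitAlgHom k C)))
    (hC : HopfRep.IsUnipotent k C) (hQ : HopfRep.IsUnipotent k (A ⧸ J)) :
    HopfRep.IsUnipotent k A := by
  intro V _ _ _ hfin hnt
  obtain ⟨hWsub, cC, hcC⟩ := exists_cores_coinv ψ hψ J hJ V
  have hW : coinv k J V ≠ ⊥ := by
    letI : HopfRep.Comod k (A ⧸ J) V := Groth.Agent.Helper9.comodOfCoalgHom
      ((Bialgebra.Quotient.mkBialgHom (R := k) J).toCoalgHom)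
    have h1 := hQ V hfin hnt
    have e := fixedPts_quot_eq (k := k) (V := V) J
    rw [← e]
    exact h1
  haveI : Nontrivial (coinv k J V) := Submodule.nontrivial_iff_ne_bot.mpr hW
  have h2 := hC (coinv k J V) inferInstance inferInstance
  obtain ⟨w, hw, hw0⟩ := Submodule.exists_mem_ne_zero_of_ne_bot h2
  intro hbot
  have hfix : (w : V) ∈ HopfRep.fixedPts k A V := by
    show HopfRep.Comod.coact (k := k) (A := A) (w : V) = (w : V) ⊗ₜ[k] (1 : A)
    have hw' : cC.coact w = w ⊗ₜ[k] (1 : C) := hw
    rw [← hcC w, hw', TensorProduct.map_tmul]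
    congr 1
    exact map_one ψ
  rw [hbot, Submodule.mem_bot] at hfix
  exact hw0 (Subtype.ext hfix)

end ext

end Groth.Agent.Lib.Helper6.NormQ
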