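import Mathlib
import Groth.Prelude.Def_HopfRep
import Groth.Agent.Lib.Helper6.NormQ.NQ4
import Groth.Agent.Lib.Helper6.FlagGrp.FGb
import Groth.Agent.Lib.Helper2.Unip.Pointed
import Groth.Agent.S3272

/-!
# Coinvariants of the quotient by a sub-Hopf-algebra (helper6)

Part 6: a commutative Hopf algebra over a field is trigonalizable iff it has a diagonalizable
quotient group with unipotent kernel.
-/

set_option autoImplicit false
set_option linter.unusedSectionVars false
set_option linter.unusedVariables false
set_option linter.unusedSimpArgs false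
set_option linter.style.haveILetI false
set_option linter.overlappingInstances false
set_option maxHeartbeats 800000
set_option synthInstance.maxHeartbeats 400000

noncomputable section

namespace Groth.Agent.Lib.Helper6.NormQ

open TensorProduct Groth.Agent.Helper2.FF Groth.Agent.Helper2.HopfSub
  Groth.Agent.Helper2.HopfLib Groth.Agent.Helper2.MultPart Groth.Agent.Helper2.Unip
  Groth.Agent.Helper9 Groth.Agent.Lib.Helper6.FlagGrp Groth.Agent.Helper2.Pointed

universe u v w

section flagstep

variable {k : Type u} [Field k] {A : Type v} [CommRing A] [Bialgebra k A]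
variable {W : Type v} [AddCommGroup W] [Module k W] [HopfRep.Comod k A W]

/-- one step of a line flag: the quotient line carries a character -/
lemma exists_char_of_step (F F' : Submodule k W)
    (hF : HopfRep.IsSubcomod (k := k) (A := A) F) (hF' : HopfRep.IsSubcomod (k := k) (A := A) F')
    (e : W) (he : e ∈ F') (hev : ∀ v ∈ F', ∃ c : k, v - c • e ∈ F) :
    ∃ g : A, IsGroupLikeElem k g ∧ ∀ v ∈ F',
      HopfRep.Comod.coact (k := k) (A := A) v - v ⊗ₜ[k] g ∈
        LinearMap.range (F.subtype.rTensor A) := by
  have hFmem : ∀ f ∈ F, ∀ a : A, f ⊗ₜ[k] a ∈ LinearMap.range (F.subtype.rTensor A) :=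
    fun f hf a => ⟨(⟨f, hf⟩ : F) ⊗ₜ[k] a, rfl⟩
  by_cases hei : e ∈ F
  · refine ⟨1, IsGroupLikeElem.one, fun v hv => ?_⟩
    have hvF : v ∈ F := by
      obtain ⟨c, hc⟩ := hev v hv
      have h1 := F.add_mem hc (F.smul_mem c hei)
      rwa [sub_add_cancel] at h1
    exact Submodule.sub_mem _ (hF v hvF) (hFmem v hvF 1)
  · obtain ⟨f, hfe, hfF⟩ := Submodule.exists_dual_map_eq_bot_of_notMem hei inferInstance
    let lam : W →ₗ[k] k := (f e)⁻¹ • f
    have hlam : ∀ v, lam v = (f e)⁻¹ * f v := fun v => rfl
    have hlame : lam e = 1 := by rw [hlam, inv_mul_cancel₀ hfe]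
    have hlamF : ∀ v ∈ F, lam v = 0 := by
      intro v hv
      have h1 : f v ∈ F.map f := Submodule.mem_map_of_mem hv
      rw [hfF, Submodule.mem_bot] at h1
      rw [hlam, h1, mul_zero]
    have claim1 : ∀ v ∈ F', v - lam v • e ∈ F := by
      intro v hv
      obtain ⟨c, hc⟩ := hev v hv
      have h1 : lam (v - c • e) = 0 := hlamF _ hc
      rw [map_sub, map_smul, hlame, smul_eq_mul, mul_one, sub_eq_zero] at h1
      rw [h1]
      exact hc
    let G : W ⊗[k] A →ₗ[k] A := (TensorProduct.lid k A).toLinearMap ∘ₗ lam.rTensor A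
    have hG : ∀ (v : W) (a : A), G (v ⊗ₜ[k] a) = lam v • a := fun v a => by
      simp only [G, LinearMap.comp_apply, LinearMap.rTensor_tmul, LinearEquiv.coe_coe,
        TensorProduct.lid_tmul]
    have claim2 : ∀ t : F' ⊗[k] A, F'.subtype.rTensor A t -
        e ⊗ₜ[k] (G (F'.subtype.rTensor A t)) ∈ LinearMap.range (F.subtype.rTensor A) := by
      intro t
      induction t using TensorProduct.induction_on with
      | zero =>
        rw [map_zero, map_zero, TensorProduct.tmul_zero, sub_zero]
        exact Submodule.zero_mem _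
      | tmul v a =>
        have h1 : F'.subtype.rTensor A (v ⊗ₜ[k] a) -
            e ⊗ₜ[k] (G (F'.subtype.rTensor A (v ⊗ₜ[k] a))) =
            ((v : W) - lam (v : W) • e) ⊗ₜ[k] a := by
          rw [LinearMap.rTensor_tmul, Submodule.subtype_apply, hG, TensorProduct.sub_tmul,
            TensorProduct.smul_tmul]
        rw [h1]
        exact hFmem _ (claim1 v v.2) a
      | add x y hx hy =>
        have h1 : F'.subtype.rTensor A (x + y) - e ⊗ₜ[k] (G (F'.subtype.rTensor A (x + y))) =
            (F'.subtype.rTensor A x - e ⊗ₜ[k] (G (F'.subtype.rTensor A x))) +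
            (F'.subtype.rTensor A y - e ⊗ₜ[k] (G (F'.subtype.rTensor A y))) := by
          simp only [map_add, TensorProduct.tmul_add]
          abel
        rw [h1]
        exact Submodule.add_mem _ hx hy
    obtain ⟨t, ht⟩ := hF' e he
    have hge : HopfRep.Comod.coact (k := k) (A := A) e -
        e ⊗ₜ[k] (G (HopfRep.Comod.coact (k := k) (A := A) e)) ∈
        LinearMap.range (F.subtype.rTensor A) := by
      have h1 := claim2 t
      rwa [ht] at h1
    have hgl : IsGroupLikeElem k (G (HopfRep.Comod.coact (k := k) (A := A) e)) := by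
      letI := quotComod F hF
      have hne : F.mkQ e ≠ 0 := by
        rw [Ne, Submodule.mkQ_apply, Submodule.Quotient.mk_eq_zero]
        exact hei
      apply isGroupLikeElem_of_coact_eq (K := k) (C := A) (V := W ⧸ F) hne
      rw [quotComod_coact_mk]
      obtain ⟨r, hr⟩ := hge
      have h1 : HopfRep.Comod.coact (k := k) (A := A) e =
          e ⊗ₜ[k] (G (HopfRep.Comod.coact (k := k) (A := A) e)) + F.subtype.rTensor A r := by
        rw [hr]
        abel
      have h0 : F.mkQ ∘ₗ F.subtype = 0 := by
        ext b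
        simp
      have h2 : F.mkQ.rTensor A (F.subtype.rTensor A r) = 0 := by
        rw [← LinearMap.comp_apply, ← LinearMap.rTensor_comp, h0, LinearMap.rTensor_zero,
          LinearMap.zero_apply]
      rw [h1, map_add, h2, add_zero, LinearMap.rTensor_tmul]
      rw [← h1]
    refine ⟨G (HopfRep.Comod.coact (k := k) (A := A) e), hgl, fun v hv => ?_⟩
    have h1 := claim1 v hv
    have h2 : HopfRep.Comod.coact (k := k) (A := A) v -
        v ⊗ₜ[k] (G (HopfRep.Comod.coact (k := k) (A := A) e)) =
        (HopfRep.Comod.coact (k := k) (A := A) (v - lam v • e) -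
          (v - lam v • e) ⊗ₜ[k] (G (HopfRep.Comod.coact (k := k) (A := A) e))) +
        lam v • (HopfRep.Comod.coact (k := k) (A := A) e -
          e ⊗ₜ[k] (G (HopfRep.Comod.coact (k := k) (A := A) e))) := by
      rw [map_sub, map_smul, TensorProduct.sub_tmul, ← TensorProduct.smul_tmul', smul_sub]
      abel
    rw [h2]
    exact Submodule.add_mem _ (Submodule.sub_mem _ (hF _ h1) (hFmem _ h1 _))
      (Submodule.smul_mem _ _ hge)

end flagstep

section fwd

variable {k : Type u} [Field k] {A : Type v} [CommRing A] [HopfAlgebra k A]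

/-- the kernel of all characters of a trigonalizable group is unipotent -/
theorem isUnipotent_quotient_of_isTrigonalizable (hT : HopfRep.IsTrigonalizable k A)
    (J : Ideal A) [J.IsHopfIdeal k]
    (hJ : ∀ g : A, IsGroupLikeElem k g → Ideal.Quotient.mk J g = 1) :
    HopfRep.IsUnipotent k (A ⧸ J) := by
  refine isUnipotent_of_filtration (filt k (A ⧸ J)) filt_zero filt_mono ?_
    (fun n x hx => mem_filt_succ.mp hx)
  intro y
  obtain ⟨a, rfl⟩ := Ideal.Quotient.mk_surjective y
  obtain ⟨W, hWfin, haW, hW⟩ := exists_finite_subcomod_mem (k := k) (C := A) (V := A) a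
  letI : HopfRep.Comod k A W := subComod W hW
  obtain ⟨m, F, hmono, hF0, hFm, hsub, hcyc⟩ := hasLineFlag_of_isTrigonalizable hT W hWfin
  let π : A →ₗ[k] A ⧸ J := (Ideal.Quotient.mkₐ k J).toLinearMap
  have hπ : ∀ a, π a = Ideal.Quotient.mk J a := fun a => rfl
  have key : ∀ i, ∀ w ∈ F i, π (w : A) ∈ filt k (A ⧸ J) i := by
    intro i
    induction i with
    | zero =>
      intro w hw
      rw [hF0, Submodule.mem_bot] at hw
      rw [hw, Submodule.coe_zero, map_zero]
      exact Submodule.zero_mem _
    | succ i ih =>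
      intro w hw
      obtain ⟨e, he, hev⟩ := hcyc i
      obtain ⟨g, hg, hgv⟩ := exists_char_of_step (F i) (F (i + 1)) (hsub i) (hsub (i + 1))
        e he hev
      obtain ⟨t, ht⟩ := hgv w hw
      rw [mem_filt_succ]
      let g' : F i →ₗ[k] filt k (A ⧸ J) i :=
        LinearMap.codRestrict (filt k (A ⧸ J) i) (π ∘ₗ W.subtype ∘ₗ (F i).subtype)
          (fun v => ih v v.2)
      refine ⟨TensorProduct.map g' π t, ?_⟩
      have h1 : ∀ t : (F i) ⊗[k] A,
          (filt k (A ⧸ J) i).subtype.rTensor (A ⧸ J) (TensorProduct.map g' π t) =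
          TensorProduct.map π π (W.subtype.rTensor A ((F i).subtype.rTensor A t)) := by
        intro t
        induction t using TensorProduct.induction_on with
        | zero => simp
        | tmul a b => rfl
        | add x y hx hy => simp only [map_add, hx, hy]
      have h2 : W.subtype.rTensor A (HopfRep.Comod.coact (k := k) (A := A) w) =
          Coalgebra.comul (R := k) (w : A) := subtype_rTensor_subCoact W hW w
      have h3 : π g = 1 := hJ g hg
      rw [h1, ht, map_sub, map_sub, h2, LinearMap.rTensor_tmul, TensorProduct.map_tmul, h3]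
      rfl
  exact ⟨m, key m ⟨a, haW⟩ (by rw [hFm]; trivial)⟩

variable (k A) in
/-- the subalgebra generated by the group-like elements -/
def glSub : Subalgebra k A := Algebra.adjoin k {g : A | IsGroupLikeElem k g}

lemma HS_glSub : HS (glSub k A) := by
  apply HS_adjoin
  · intro g hg
    have hgm : g ∈ Algebra.adjoin k {g : A | IsGroupLikeElem k g} := Algebra.subset_adjoin hg
    have h1 : Algebra.TensorProduct.map (Algebra.adjoin k {g : A | IsGroupLikeElem k g}).val
        (Algebra.adjoin k {g : A | IsGroupLikeElem k g}).val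
        ((⟨g, hgm⟩ : Algebra.adjoin k {g : A | IsGroupLikeElem k g}) ⊗ₜ[k] ⟨g, hgm⟩) =
        Coalgebra.comul (R := k) g := by
      rw [Algebra.TensorProduct.map_tmul]
      exact (hg.comul_eq_tmul_self).symm
    exact ⟨_, h1⟩
  · intro g hg
    exact Algebra.subset_adjoin (IsGroupLikeElem.antipode hg)

lemma glSub_toSubmodule : Subalgebra.toSubmodule (glSub k A) =
    Submodule.span k {g : A | IsGroupLikeElem k g} := by
  let M : Submonoid A :=
    { carrier := {g : A | IsGroupLikeElem k g}
      mul_mem' := fun ha hb => IsGroupLikeElem.mul ha hb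
      one_mem' := IsGroupLikeElem.one }
  have h1 : Submonoid.closure ({g : A | IsGroupLikeElem k g} : Set A) = M :=
    Submonoid.closure_eq M
  unfold glSub
  rw [Algebra.adjoin_eq_span, h1]
  rfl

theorem isDiagonalizable_glSub : letI := hopfB (glSub k A) HS_glSub
    HopfRep.IsDiagonalizable k (glSub k A) := by
  letI := hopfB (glSub k A) HS_glSub
  unfold HopfRep.IsDiagonalizable
  rw [eq_top_iff]
  rintro b -
  -- group-likes of `A` are group-like in the subalgebra
  have hgl : ∀ (g : A) (hg : IsGroupLikeElem k g),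
      IsGroupLikeElem k (⟨g, Algebra.subset_adjoin hg⟩ : glSub k A) := by
    intro g hg
    refine ⟨?_, ?_⟩
    · exact hg.counit_eq_one
    · have hinj : Function.Injective (TensorProduct.map
          ((inclB (glSub k A) HS_glSub : glSub k A →ₐc[k] A) : glSub k A →ₗ[k] A)
          ((inclB (glSub k A) HS_glSub : glSub k A →ₐc[k] A) : glSub k A →ₗ[k] A)) :=
        TensorProduct.map_injective_of_flat_flat _ _ (inclB_injective _ HS_glSub)
          (inclB_injective _ HS_glSub)
      apply hinj
      rw [CoalgHomClass.map_comp_comul_apply, TensorProduct.map_tmul]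
      exact hg.comul_eq_tmul_self
  have hb : (b : A) ∈ Submodule.span k {g : A | IsGroupLikeElem k g} := by
    rw [← glSub_toSubmodule]
    exact b.2
  have hle : Submodule.span k {g : A | IsGroupLikeElem k g} ≤
      (Submodule.span k {c : glSub k A | IsGroupLikeElem k c}).map
        (glSub k A).val.toLinearMap := by
    rw [Submodule.span_le]
    intro g hg
    exact ⟨⟨g, Algebra.subset_adjoin hg⟩, Submodule.subset_span (hgl g hg), rfl⟩
  obtain ⟨b', hb', hbb'⟩ := hle hb
  have : b' = b := Subtype.ext hbb'
  rw [← this]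
  exact hb'

/-- a trigonalizable group has a diagonalizable quotient with unipotent kernel -/
theorem exists_diag_quotient (hT : HopfRep.IsTrigonalizable k A) :
    ∃ (B : Type v) (_ : CommRing B) (_ : HopfAlgebra k B) (ψ : B →ₐc[k] A) (J : Ideal A)
      (_ : J.IsHopfIdeal k),
      Function.Injective ψ ∧ HopfRep.IsDiagonalizable k B ∧
        J = Ideal.map (ψ : B →+* A) (RingHom.ker (Bialgebra.counitAlgHom k B)) ∧
        HopfRep.IsUnipotent k (A ⧸ J) := by
  have hHS : HS (glSub k A) := HS_glSub
  haveI hJH : (augJ (glSub k A)).IsHopfIdeal k := isHopfIdeal_augJ _ hHS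
  refine ⟨glSub k A, inferInstance, hopfB _ hHS, inclB _ hHS, augJ (glSub k A), hJH,
    inclB_injective _ hHS, isDiagonalizable_glSub, augJ_eq_map _ hHS, ?_⟩
  apply isUnipotent_quotient_of_isTrigonalizable hT
  intro g hg
  have hgm : g ∈ glSub k A := Algebra.subset_adjoin hg
  rw [mk_eq_of_mem (glSub k A) hgm, hg.counit_eq_one, map_one]

end fwd

section bwd

variable {k : Type u} [Field k] {A : Type v} [CommRing A] [HopfAlgebra k A]
  {B : Type v} [CommRing B] [HopfAlgebra k B]

/-- a group with a diagonalizable quotient and unipotent kernel is trigonalizable -/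
theorem isTrigonalizable_of_diag_quotient (ψ : B →ₐc[k] A) (hψ : Function.Injective ψ)
    (J : Ideal A) [J.IsHopfIdeal k]
    (hJ : J = Ideal.map (ψ : B →+* A) (RingHom.ker (Bialgebra.counitAlgHom k B)))
    (hD : HopfRep.IsDiagonalizable k B) (hU : HopfRep.IsUnipotent k (A ⧸ J)) :
    HopfRep.IsTrigonalizable k A := by
  intro V _ _ _ hfin hsimple
  obtain ⟨hWsub, cC, hcC⟩ := exists_cores_coinv ψ hψ J hJ V
  haveI hnt : Nontrivial V := hsimple.1
  have hW : coinv k J V ≠ ⊥ := by
    letI : HopfRep.Comod k (A ⧸ J) V := Groth.Agent.Helper9.comodOfCoalgHom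
      ((Bialgebra.Quotient.mkBialgHom (R := k) J).toCoalgHom)
    have h1 := hU V hfin hnt
    have e := fixedPts_quot_eq (k := k) (V := V) J
    rw [← e]
    exact h1
  haveI : Nontrivial (coinv k J V) := Submodule.nontrivial_iff_ne_bot.mpr hW
  letI : HopfRep.Comod k B (coinv k J V) := cC
  have hspan := (Groth.Agent.S3272.result k B).mp hD (coinv k J V) inferInstance
  have hex : ∃ w : coinv k J V, w ≠ 0 ∧ ∃ a : B,
      HopfRep.Comod.coact (k := k) (A := B) w = w ⊗ₜ[k] a := by
    by_contra hno
    push Not at hno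
    have hle : Submodule.span k {v : coinv k J V | ∃ a : B,
        HopfRep.Comod.coact (k := k) (A := B) v = v ⊗ₜ[k] a} ≤ ⊥ := by
      rw [Submodule.span_le]
      rintro v ⟨a, ha⟩
      by_contra hv
      exact hno v (fun h0 => hv (by rw [h0]; exact Submodule.zero_mem _)) a ha
    rw [hspan] at hle
    obtain ⟨x, hx⟩ := exists_ne (0 : coinv k J V)
    exact hx ((Submodule.mem_bot k).mp (hle Submodule.mem_top))
  obtain ⟨w, hw0, a, hwa⟩ := hex
  have hwV : (w : V) ≠ 0 := fun h => hw0 (Subtype.ext h)
  have hA : HopfRep.Comod.coact (k := k) (A := A) (w : V) = (w : V) ⊗ₜ[k] ψ a := by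
    have hwa' : cC.coact w = w ⊗ₜ[k] a := hwa
    rw [← hcC w, hwa', TensorProduct.map_tmul]
    rfl
  have hsub : HopfRep.IsSubcomod (k := k) (A := A) (Submodule.span k {(w : V)}) := by
    intro v hv
    obtain ⟨c, rfl⟩ := Submodule.mem_span_singleton.mp hv
    have h1 : HopfRep.Comod.coact (k := k) (A := A) (c • (w : V)) =
        c • ((w : V) ⊗ₜ[k] ψ a) := by rw [map_smul, hA]
    rw [h1]
    refine ⟨c • ((⟨(w : V), Submodule.mem_span_singleton_self _⟩ :
      Submodule.span k {(w : V)}) ⊗ₜ[k] ψ a), ?_⟩
    rw [map_smul, LinearMap.rTensor_tmul]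
    rfl
  have htop : Submodule.span k {(w : V)} = ⊤ := by
    refine (hsimple.2 _ hsub).resolve_left ?_
    intro h
    exact hwV (Submodule.span_singleton_eq_bot.mp h)
  have h1 : Module.finrank k (Submodule.span k {(w : V)}) = 1 := finrank_span_singleton hwV
  rw [htop, finrank_top] at h1
  exact h1

end bwd

end Groth.Agent.Lib.Helper6.NormQ
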