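import Mathlib
import Groth.Prelude.Def_HopfRep
import Groth.Prelude.Def_SGA3b
import Groth.Agent.Lib.Helper6.NormQ.NQ6
import Groth.Agent.Lib.Helper6.Isotriv.Main
import Groth.Agent.Lib.Helper6.MultType.Field
import Groth.Agent.Lib.Helper2.Unip.FieldExt

/-!
# Coinvariants of the quotient by a sub-Hopf-algebra (helper6)

Part 7: sub-Hopf-algebras of finitely generated Hopf algebras are finitely generated; a group
with a quotient of multiplicative type and unipotent kernel becomes trigonalizable over a finite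
separable extension.
-/

set_option autoImplicit false
set_option linter.unusedSectionVars false
set_option linter.unusedVariables false
set_option linter.unusedSimpArgs false
set_option linter.style.haveILetI false
set_option linter.overlappingInstances false
set_option maxHeartbeats 800000
set_option synthInstance.maxHeartbeats 400000

noncomputable section

namespace Groth.Agent.Lib.Helper6.NormQ

open TensorProduct Groth.Agent.Helper2.FF Groth.Agent.Helper2.HopfSub
  Groth.Agent.Helper2.HopfLib Groth.Agent.Helper2.MultPart Groth.Agent.Helper2.Unip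
  Groth.Agent.Helper9

universe u v v' w

section fg

variable {k : Type u} [Field k] {A : Type v} [CommRing A] [HopfAlgebra k A]

/-- elements of `B` are right coinvariant -/
lemma lTensor_mk_comul_of_mem (B : Subalgebra k A) (hB : HS B) (b : A) (hb : b ∈ B) :
    (Ideal.Quotient.mkₐ k (augJ B)).toLinearMap.lTensor A (Coalgebra.comul (R := k) b) =
      b ⊗ₜ[k] (1 : A ⧸ augJ B) := by
  obtain ⟨z, hz⟩ := hB.1 b hb
  have hz' : Algebra.TensorProduct.map B.val B.val z = Coalgebra.comul (R := k) b := hz
  have key : ∀ z : B ⊗[k] B, (Ideal.Quotient.mkₐ k (augJ B)).toLinearMap.lTensor A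
      (Algebra.TensorProduct.map B.val B.val z) =
      (TensorProduct.rid k A ((Coalgebra.counit (R := k) (A := A)).lTensor A
        (Algebra.TensorProduct.map B.val B.val z))) ⊗ₜ[k] (1 : A ⧸ augJ B) := by
    intro z
    induction z using TensorProduct.induction_on with
    | zero => simp
    | add s t hs ht => simp only [map_add, hs, ht, TensorProduct.add_tmul]
    | tmul c d =>
      rw [Algebra.TensorProduct.map_tmul, LinearMap.lTensor_tmul, LinearMap.lTensor_tmul,
        TensorProduct.rid_tmul]
      show (c : A) ⊗ₜ[k] Ideal.Quotient.mk (augJ B) (d : A) = _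
      rw [mk_eq_of_mem B d.2, Algebra.algebraMap_eq_smul_one, TensorProduct.tmul_smul,
        TensorProduct.smul_tmul']
      rfl
  rw [← hz', key z, hz', Coalgebra.lTensor_counit_comul, TensorProduct.rid_tmul, one_smul]

/-- sub-Hopf-algebras of a finitely generated commutative Hopf algebra over a field are finitely
generated -/
theorem fg_of_HS [Algebra.FiniteType k A] (B : Subalgebra k A) (hB : HS B) : B.FG := by
  classical
  haveI : IsNoetherianRing A := Algebra.FiniteType.isNoetherianRing k A
  let S : Set (Ideal A) := {I | ∃ B' : Subalgebra k A, B' ≤ B ∧ B'.FG ∧ HS B' ∧ I = augJ B'}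
  have hne : S.Nonempty := by
    obtain ⟨B', hle, -, hfg, hHS⟩ := exists_fg_HS_le B hB ∅ (by simp)
    exact ⟨augJ B', B', hle, hfg, hHS, rfl⟩
  obtain ⟨I₀, ⟨B₀, hB₀le, hB₀fg, hB₀HS, rfl⟩, hmax⟩ :=
    (set_has_maximal_iff_noetherian (R := A) (M := A)).mpr inferInstance S hne
  have hle : B ≤ B₀ := by
    intro x hx
    obtain ⟨T₀, hT₀⟩ := hB₀fg
    have hTB : (↑(insert x T₀) : Set A) ⊆ B := by
      intro y hy
      rw [Finset.coe_insert, Set.mem_insert_iff] at hy
      rcases hy with rfl | hy
      · exact hx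
      · exact hB₀le (hT₀ ▸ Algebra.subset_adjoin hy)
    obtain ⟨B₁, hB₁le, hTB₁, hB₁fg, hB₁HS⟩ := exists_fg_HS_le B hB (insert x T₀) hTB
    have h01 : B₀ ≤ B₁ := by
      rw [← hT₀]
      apply Algebra.adjoin_le
      intro y hy
      exact hTB₁ (by rw [Finset.coe_insert]; exact Set.mem_insert_of_mem _ hy)
    have hJle : augJ B₀ ≤ augJ B₁ := by
      apply Ideal.span_mono
      rintro a ⟨ha, hε⟩
      exact ⟨h01 ha, hε⟩
    have hJeq : augJ B₁ = augJ B₀ := by
      by_contra hne'
      exact hmax (augJ B₁) ⟨B₁, hB₁le, hB₁fg, hB₁HS, rfl⟩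
        (lt_of_le_of_ne hJle (fun h => hne' h.symm))
    have hx₁ : x ∈ B₁ := hTB₁ (by rw [Finset.coe_insert]; exact Set.mem_insert _ _)
    exact mem_of_coinv B₀ hB₀HS (augJ B₁) hJeq x (lTensor_mk_comul_of_mem B₁ hB₁HS x hx₁)
  have : B = B₀ := le_antisymm hle hB₀le
  rw [this]
  exact hB₀fg

/-- a Hopf algebra embedding into a finitely generated one is finitely generated -/
theorem finiteType_of_injective [Algebra.FiniteType k A] {C : Type v'} [CommRing C]
    [HopfAlgebra k C] (ψ : C →ₐc[k] A) (hψ : Function.Injective ψ) : Algebra.FiniteType k C := by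
  have h1 : ((ψ : C →ₐ[k] A).range).FG := fg_of_HS _ (HS_range ψ)
  have h2 : Algebra.FiniteType k (ψ : C →ₐ[k] A).range := (Subalgebra.fg_iff_finiteType _).mp h1
  exact Algebra.FiniteType.equiv h2 (AlgEquiv.ofInjective (ψ : C →ₐ[k] A) hψ).symm

end fg

section lift

variable {k : Type u} [Field k] {A : Type v} [CommRing A] [HopfAlgebra k A]
  {H' : Type v'} [CommRing H'] [HopfAlgebra k H']

/-- the bialgebra map induced on a Hopf quotient -/
def quotLift (g : A →ₐc[k] H') (I' : Ideal A) [I'.IsHopfIdeal k]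
    (hI' : I' ≤ RingHom.ker (g : A →+* H')) : A ⧸ I' →ₐc[k] H' :=
  BialgHom.ofAlgHom (Ideal.Quotient.liftₐ I' (g : A →ₐ[k] H') (fun a ha => hI' ha))
    (by
      apply Ideal.Quotient.algHom_ext
      apply AlgHom.ext
      intro a
      show Coalgebra.counit (R := k) (g a) = Coalgebra.counit (R := k) a
      exact CoalgHomClass.counit_comp_apply g a)
    (by
      apply Ideal.Quotient.algHom_ext
      apply AlgHom.ext
      intro a
      show Algebra.TensorProduct.map
          (Ideal.Quotient.liftₐ I' (g : A →ₐ[k] H') (fun a ha => hI' ha))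
          (Ideal.Quotient.liftₐ I' (g : A →ₐ[k] H') (fun a ha => hI' ha))
          (Coalgebra.comul (R := k) (Ideal.Quotient.mk I' a)) =
        Coalgebra.comul (R := k) (g a)
      rw [Bialgebra.Quotient.comul_mk]
      have h3 : ∀ t : A ⊗[k] A, Algebra.TensorProduct.map
          (Ideal.Quotient.liftₐ I' (g : A →ₐ[k] H') (fun a ha => hI' ha))
          (Ideal.Quotient.liftₐ I' (g : A →ₐ[k] H') (fun a ha => hI' ha))
          (TensorProduct.map (Ideal.Quotient.mkₐ k I').toLinearMap
            (Ideal.Quotient.mkₐ k I').toLinearMap t) =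
          TensorProduct.map (g : A →ₗ[k] H') (g : A →ₗ[k] H') t := by
        intro t
        induction t using TensorProduct.induction_on with
        | zero => simp
        | tmul a b => rfl
        | add x y hx hy => simp only [map_add, hx, hy]
      rw [h3]
      exact CoalgHomClass.map_comp_comul_apply g a)

lemma quotLift_mk (g : A →ₐc[k] H') (I' : Ideal A) [I'.IsHopfIdeal k]
    (hI' : I' ≤ RingHom.ker (g : A →+* H')) (a : A) :
    quotLift g I' hI' (Ideal.Quotient.mk I' a) = g a := rfl

lemma quotLift_injective (g : A →ₐc[k] H') (I' : Ideal A) [I'.IsHopfIdeal k]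
    (hI' : I' ≤ RingHom.ker (g : A →+* H')) (h : RingHom.ker (g : A →+* H') ≤ I') :
    Function.Injective (quotLift g I' hI') := by
  rw [injective_iff_map_eq_zero]
  intro y hy
  obtain ⟨a, rfl⟩ := Ideal.Quotient.mk_surjective y
  rw [quotLift_mk] at hy
  exact Ideal.Quotient.eq_zero_iff_mem.mpr (h hy)

end lift

section transport

variable {k : Type u} [Field k] {A : Type v} [CommRing A] [Bialgebra k A]
  {A₂ : Type v} [CommRing A₂] [Bialgebra k A₂]

/-- trigonalizability is invariant under bialgebra isomorphisms -/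
theorem isTrigonalizable_of_bialgEquiv (e : A ≃ₐc[k] A₂) (hT : HopfRep.IsTrigonalizable k A) :
    HopfRep.IsTrigonalizable k A₂ := by
  intro V _ _ c₂ hfin hsimple
  letI cA : HopfRep.Comod k A V := comodOfCoalgHom ((e.symm : A₂ →ₐc[k] A) : A₂ →ₗc[k] A)
  refine hT V hfin ⟨hsimple.1, fun W hW => hsimple.2 W ?_⟩
  intro w hw
  obtain ⟨t, ht⟩ := hW w hw
  refine ⟨((e : A →ₐc[k] A₂) : A →ₗ[k] A₂).lTensor W t, ?_⟩
  have h1 : W.subtype.rTensor A₂ (((e : A →ₐc[k] A₂) : A →ₗ[k] A₂).lTensor W t) =
      ((e : A →ₐc[k] A₂) : A →ₗ[k] A₂).lTensor V (W.subtype.rTensor A t) := by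
    rw [← LinearMap.comp_apply, ← LinearMap.comp_apply, LinearMap.rTensor_comp_lTensor,
      LinearMap.lTensor_comp_rTensor]
  rw [h1, ht]
  have h2 : HopfRep.Comod.coact (k := k) (A := A) w =
      (((e.symm : A₂ →ₐc[k] A) : A₂ →ₗc[k] A)).toLinearMap.lTensor V
        (c₂.coact w) := rfl
  rw [h2, ← LinearMap.comp_apply, ← LinearMap.lTensor_comp]
  have h3 : ((e : A →ₐc[k] A₂) : A →ₗ[k] A₂) ∘ₗ
      (((e.symm : A₂ →ₐc[k] A) : A₂ →ₗc[k] A)).toLinearMap = LinearMap.id := by
    apply LinearMap.ext
    intro x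
    exact e.apply_symm_apply x
  rw [h3, LinearMap.lTensor_id, LinearMap.id_apply]

end transport

end Groth.Agent.Lib.Helper6.NormQ
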